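import Cfsg.Agent.Lib.H35.TCF24P.Data
import Cfsg.Agent.Lib.H35.TC
set_option autoImplicit false
set_option maxRecDepth 100000
set_option linter.all false
namespace H35.TCF24P
open H35.TC
/-- letters -/
inductive Lt | l | k | a | b | c | d | e | f | h | i
  deriving DecidableEq
/-- inverse letter -/
def inv : Lt → Lt
  | .l => .l
  | .k => .k
  | .a => .a
  | .b => .b
  | .c => .c
  | .d => .d
  | .e => .e
  | .f => .f
  | .h => .h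
  | .i => .i
/-- table functions -/
noncomputable def T : Lt → ℕ → ℕ
  | .l => T_l
  | .k => T_k
  | .a => T_a
  | .b => T_b
  | .c => T_c
  | .d => T_d
  | .e => T_e
  | .f => T_f
  | .h => T_h
  | .i => T_i
/-- decoding of letter codes -/
def lt : ℕ → Lt
  | 0 => .l
  | 1 => .k
  | 2 => .a
  | 3 => .b
  | 4 => .c
  | 5 => .d
  | 6 => .e
  | 7 => .f
  | 8 => .h
  | _ => .i
/-- Coxeter matrix (0: no relation) -/
def mm : Lt → Lt → ℕ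
  | .l, .l => 1
  | .l, .k => 3
  | .l, .a => 2
  | .l, .b => 2
  | .l, .c => 2
  | .l, .d => 2
  | .l, .e => 2
  | .l, .f => 2
  | .l, .h => 2
  | .l, .i => 2
  | .k, .l => 3
  | .k, .k => 1
  | .k, .a => 3
  | .k, .b => 2
  | .k, .c => 2
  | .k, .d => 2
  | .k, .e => 2
  | .k, .f => 2
  | .k, .h => 2
  | .k, .i => 2
  | .a, .l => 2
  | .a, .k => 3
  | .a, .a => 1
  | .a, .b => 3
  | .a, .c => 2
  | .a, .d => 2
  | .a, .e => 2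
  | .a, .f => 2
  | .a, .h => 2
  | .a, .i => 2
  | .b, .l => 2
  | .b, .k => 2
  | .b, .a => 3
  | .b, .b => 1
  | .b, .c => 3
  | .b, .d => 2
  | .b, .e => 2
  | .b, .f => 2
  | .b, .h => 2
  | .b, .i => 2
  | .c, .l => 2
  | .c, .k => 2
  | .c, .a => 2
  | .c, .b => 3
  | .c, .c => 1
  | .c, .d => 3
  | .c, .e => 2
  | .c, .f => 2
  | .c, .h => 2
  | .c, .i => 2
  | .d, .l => 2
  | .d, .k => 2
  | .d, .a => 2
  | .d, .b => 2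
  | .d, .c => 3
  | .d, .d => 1
  | .d, .e => 3
  | .d, .f => 2
  | .d, .h => 3
  | .d, .i => 2
  | .e, .l => 2
  | .e, .k => 2
  | .e, .a => 2
  | .e, .b => 2
  | .e, .c => 2
  | .e, .d => 3
  | .e, .e => 1
  | .e, .f => 3
  | .e, .h => 2
  | .e, .i => 2
  | .f, .l => 2
  | .f, .k => 2
  | .f, .a => 2
  | .f, .b => 2
  | .f, .c => 2
  | .f, .d => 2
  | .f, .e => 3
  | .f, .f => 1
  | .f, .h => 2
  | .f, .i => 2
  | .h, .l => 2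
  | .h, .k => 2
  | .h, .a => 2
  | .h, .b => 2
  | .h, .c => 2
  | .h, .d => 3
  | .h, .e => 2
  | .h, .f => 2
  | .h, .h => 1
  | .h, .i => 3
  | .i, .l => 2
  | .i, .k => 2
  | .i, .a => 2
  | .i, .b => 2
  | .i, .c => 2
  | .i, .d => 2
  | .i, .e => 2
  | .i, .f => 2
  | .i, .h => 3
  | .i, .i => 1
/-- extra relators `w ^ n` -/
def extra : List (List Lt × ℕ) := [
  ([.l, .h, .f, .e, .d, .c, .b, .a, .h, .f, .e, .d, .c, .b, .a, .h, .f, .e, .d, .c, .b, .a, .h, .f, .e, .d, .c, .b, .a, .h, .f, .e, .d, .c, .b, .a, .h, .f, .e, .d, .c, .b, .a, .h, .f, .e, .d, .c, .b, .a, .h, .f, .e, .d, .c, .b, .a, .h, .f, .e, .d, .c, .b, .a], 1)]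
/-- relators -/
def rels : List (List Lt) := mkRels [(.c, .e), (.a, .e), (.a, .h), (.a, .f), (.a, .i), (.b, .d), (.b, .e), (.b, .h), (.b, .f), (.b, .i), (.l, .a), (.c, .h), (.c, .f), (.c, .i), (.d, .f), (.d, .i), (.e, .h), (.e, .i), (.h, .f), (.f, .i), (.a, .c), (.l, .b), (.l, .c), (.l, .d), (.l, .e), (.l, .h), (.l, .f), (.l, .i), (.k, .b), (.k, .c), (.k, .d), (.k, .e), (.k, .h), (.a, .d), (.k, .f), (.k, .i), (.c, .d), (.l, .k), (.h, .i), (.a, .b), (.e, .f), (.b, .c), (.d, .h), (.d, .e), (.k, .a), (.l, .l), (.k, .k), (.a, .a), (.b, .b), (.c, .c), (.d, .d), (.e, .e), (.f, .f), (.h, .h), (.i, .i)] mm extra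
/-- subgroup words -/
def subs : List (List Lt) := [
  [.l],
  [.k],
  [.a],
  [.b],
  [.c],
  [.d],
  [.e],
  [.f],
  [.h]]
noncomputable def dp_l_0 (j u : ℕ) : Bool :=
  Bool.rec (motive := fun _ => Bool) (lF3 T_c T_l T_c M (Nat.sub (T_l u) (Nat.mod (T_l u) M)) (Nat.mod (T_l u) M) u) (lF3 T_b T_l T_b M (Nat.sub (T_l u) (Nat.mod (T_l u) M)) (Nat.mod (T_l u) M) u) (Nat.ble (nat_lit 7) j)
noncomputable def dp_l_1 (j u : ℕ) : Bool :=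
  Bool.rec (motive := fun _ => Bool) (lF3 T_a T_l T_a M (Nat.sub (T_l u) (Nat.mod (T_l u) M)) (Nat.mod (T_l u) M) u) (lDef P (nat_lit 0) (Nat.mod (T_l u) M) u) (Nat.ble (nat_lit 9) j)
noncomputable def dp_l_2 (j u : ℕ) : Bool :=
  Bool.rec (motive := fun _ => Bool) (lS MG [T_h, T_l, T_h] M (Nat.sub (T_l u) (Nat.mod (T_l u) M)) (nat_lit 40) (Nat.mod (T_l u) M) u) (lS MG [T_i, T_l, T_i] M (Nat.sub (T_l u) (Nat.mod (T_l u) M)) (nat_lit 40) (Nat.mod (T_l u) M) u) (Nat.ble (nat_lit 13) j)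
noncomputable def dp_l_3 (j u : ℕ) : Bool :=
  Bool.rec (motive := fun _ => Bool) (lS MG [T_d, T_l, T_d] M (Nat.sub (T_l u) (Nat.mod (T_l u) M)) (nat_lit 40) (Nat.mod (T_l u) M) u) (lS MG [T_e, T_l, T_e] M (Nat.sub (T_l u) (Nat.mod (T_l u) M)) (nat_lit 40) (Nat.mod (T_l u) M) u) (Nat.ble (nat_lit 15) j)
noncomputable def dp_l_4 (j u : ℕ) : Bool :=
  Bool.rec (motive := fun _ => Bool) (lS MG [T_b, T_l, T_b] M (Nat.sub (T_l u) (Nat.mod (T_l u) M)) (nat_lit 40) (Nat.mod (T_l u) M) u) (lS MG [T_a, T_l, T_a] M (Nat.sub (T_l u) (Nat.mod (T_l u) M)) (nat_lit 40) (Nat.mod (T_l u) M) u) (Nat.ble (nat_lit 17) j)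
noncomputable def dp_l_5 (j u : ℕ) : Bool :=
  Bool.rec (motive := fun _ => Bool) (lH [] [] M (Nat.sub (T_l u) (Nat.mod (T_l u) M)) (Nat.mod (T_l u) M) u) (lF [T_k, T_l, T_k, T_l, T_k] M (Nat.sub (T_l u) (Nat.mod (T_l u) M)) (Nat.mod (T_l u) M) u) (Nat.ble (nat_lit 21) j)
noncomputable def dp_l_6 (j u : ℕ) : Bool :=
  Bool.rec (motive := fun _ => Bool) (lS MG [T_f, T_l, T_f] M (Nat.sub (T_l u) (Nat.mod (T_l u) M)) (nat_lit 40) (Nat.mod (T_l u) M) u) (dp_l_5 j u) (Nat.ble (nat_lit 20) j)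
noncomputable def dp_l_7 (j u : ℕ) : Bool :=
  Bool.rec (motive := fun _ => Bool) (lS MG [T_c, T_l, T_c] M (Nat.sub (T_l u) (Nat.mod (T_l u) M)) (nat_lit 40) (Nat.mod (T_l u) M) u) (dp_l_6 j u) (Nat.ble (nat_lit 19) j)
noncomputable def dp_l_8 (j u : ℕ) : Bool :=
  Bool.rec (motive := fun _ => Bool) (dp_l_4 j u) (dp_l_7 j u) (Nat.ble (nat_lit 18) j)
noncomputable def dp_l_9 (j u : ℕ) : Bool :=
  Bool.rec (motive := fun _ => Bool) (dp_l_3 j u) (dp_l_8 j u) (Nat.ble (nat_lit 16) j)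
noncomputable def dp_l_10 (j u : ℕ) : Bool :=
  Bool.rec (motive := fun _ => Bool) (dp_l_2 j u) (dp_l_9 j u) (Nat.ble (nat_lit 14) j)
noncomputable def dp_l_11 (j u : ℕ) : Bool :=
  Bool.rec (motive := fun _ => Bool) (lS MG [T_l] M (Nat.sub (T_l u) (Nat.mod (T_l u) M)) (nat_lit 40) (Nat.mod (T_l u) M) u) (dp_l_10 j u) (Nat.ble (nat_lit 12) j)
noncomputable def dp_l_12 (j u : ℕ) : Bool :=
  Bool.rec (motive := fun _ => Bool) (lDef P (nat_lit 0) u (Nat.mod (T_l u) M)) (dp_l_11 j u) (Nat.ble (nat_lit 11) j)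
noncomputable def dp_l_13 (j u : ℕ) : Bool :=
  Bool.rec (motive := fun _ => Bool) (dp_l_1 j u) (dp_l_12 j u) (Nat.ble (nat_lit 10) j)
noncomputable def dp_l_14 (j u : ℕ) : Bool :=
  Bool.rec (motive := fun _ => Bool) (dp_l_0 j u) (dp_l_13 j u) (Nat.ble (nat_lit 8) j)
noncomputable def dp_l_15 (j u : ℕ) : Bool :=
  Bool.rec (motive := fun _ => Bool) (lF3 T_d T_l T_d M (Nat.sub (T_l u) (Nat.mod (T_l u) M)) (Nat.mod (T_l u) M) u) (dp_l_14 j u) (Nat.ble (nat_lit 6) j)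
noncomputable def dp_l_16 (j u : ℕ) : Bool :=
  Bool.rec (motive := fun _ => Bool) (Bool.rec (motive := fun _ => Bool) (lF3 T_e T_l T_e M (Nat.sub (T_l u) (Nat.mod (T_l u) M)) (Nat.mod (T_l u) M) u) (Bool.rec (motive := fun _ => Bool) (lF3 T_f T_l T_f M (Nat.sub (T_l u) (Nat.mod (T_l u) M)) (Nat.mod (T_l u) M) u) (lF3 T_i T_l T_i M (Nat.sub (T_l u) (Nat.mod (T_l u) M)) (Nat.mod (T_l u) M) u) (Nat.ble (nat_lit 4) j)) (Nat.ble (nat_lit 3) j)) (dp_l_15 j u) (Nat.ble (nat_lit 5) j)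
noncomputable def disp_l (j u : ℕ) : Bool :=
  Bool.rec (motive := fun _ => Bool) (Bool.rec (motive := fun _ => Bool) (lF1 T_l M (Nat.sub (T_l u) (Nat.mod (T_l u) M)) (Nat.mod (T_l u) M) u) (lF3 T_h T_l T_h M (Nat.sub (T_l u) (Nat.mod (T_l u) M)) (Nat.mod (T_l u) M) u) (Nat.ble (nat_lit 1) j)) (dp_l_16 j u) (Nat.ble (nat_lit 2) j)
noncomputable def chk_l (j u : ℕ) : Bool :=
  Bool.rec (motive := fun _ => Bool) (disp_l j u) (Nat.ble (Nat.succ (MG u)) A) (Nat.ble A (T_l u))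
noncomputable def dp_k_0 (j u : ℕ) : Bool :=
  Bool.rec (motive := fun _ => Bool) (lF [T_l, T_k, T_l, T_k, T_l] M (Nat.sub (T_k u) (Nat.mod (T_k u) M)) (Nat.mod (T_k u) M) u) (lS MG [T_i, T_k, T_i] M (Nat.sub (T_k u) (Nat.mod (T_k u) M)) (nat_lit 40) (Nat.mod (T_k u) M) u) (Nat.ble (nat_lit 12) j)
noncomputable def dp_k_1 (j u : ℕ) : Bool :=
  Bool.rec (motive := fun _ => Bool) (lS MG [T_c, T_k, T_c] M (Nat.sub (T_k u) (Nat.mod (T_k u) M)) (nat_lit 40) (Nat.mod (T_k u) M) u) (lS MG [T_h, T_k, T_h] M (Nat.sub (T_k u) (Nat.mod (T_k u) M)) (nat_lit 40) (Nat.mod (T_k u) M) u) (Nat.ble (nat_lit 15) j)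
noncomputable def dp_k_2 (j u : ℕ) : Bool :=
  Bool.rec (motive := fun _ => Bool) (lF [T_a, T_k, T_a, T_k, T_a] M (Nat.sub (T_k u) (Nat.mod (T_k u) M)) (Nat.mod (T_k u) M) u) (dp_k_1 j u) (Nat.ble (nat_lit 14) j)
noncomputable def dp_k_3 (j u : ℕ) : Bool :=
  Bool.rec (motive := fun _ => Bool) (lS MG [T_e, T_k, T_e] M (Nat.sub (T_k u) (Nat.mod (T_k u) M)) (nat_lit 40) (Nat.mod (T_k u) M) u) (lS MG [T_d, T_k, T_d] M (Nat.sub (T_k u) (Nat.mod (T_k u) M)) (nat_lit 40) (Nat.mod (T_k u) M) u) (Nat.ble (nat_lit 17) j)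
noncomputable def dp_k_4 (j u : ℕ) : Bool :=
  Bool.rec (motive := fun _ => Bool) (lH [] [] M (Nat.sub (T_k u) (Nat.mod (T_k u) M)) (Nat.mod (T_k u) M) u) (lS MG [T_b, T_k, T_b] M (Nat.sub (T_k u) (Nat.mod (T_k u) M)) (nat_lit 40) (Nat.mod (T_k u) M) u) (Nat.ble (nat_lit 20) j)
noncomputable def dp_k_5 (j u : ℕ) : Bool :=
  Bool.rec (motive := fun _ => Bool) (lS MG [T_f, T_k, T_f] M (Nat.sub (T_k u) (Nat.mod (T_k u) M)) (nat_lit 40) (Nat.mod (T_k u) M) u) (dp_k_4 j u) (Nat.ble (nat_lit 19) j)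
noncomputable def dp_k_6 (j u : ℕ) : Bool :=
  Bool.rec (motive := fun _ => Bool) (dp_k_3 j u) (dp_k_5 j u) (Nat.ble (nat_lit 18) j)
noncomputable def dp_k_7 (j u : ℕ) : Bool :=
  Bool.rec (motive := fun _ => Bool) (dp_k_2 j u) (dp_k_6 j u) (Nat.ble (nat_lit 16) j)
noncomputable def dp_k_8 (j u : ℕ) : Bool :=
  Bool.rec (motive := fun _ => Bool) (dp_k_0 j u) (dp_k_7 j u) (Nat.ble (nat_lit 13) j)
noncomputable def dp_k_9 (j u : ℕ) : Bool :=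
  Bool.rec (motive := fun _ => Bool) (lS MG [T_k] M (Nat.sub (T_k u) (Nat.mod (T_k u) M)) (nat_lit 40) (Nat.mod (T_k u) M) u) (dp_k_8 j u) (Nat.ble (nat_lit 11) j)
noncomputable def dp_k_10 (j u : ℕ) : Bool :=
  Bool.rec (motive := fun _ => Bool) (lDef P (nat_lit 1) u (Nat.mod (T_k u) M)) (dp_k_9 j u) (Nat.ble (nat_lit 10) j)
noncomputable def dp_k_11 (j u : ℕ) : Bool :=
  Bool.rec (motive := fun _ => Bool) (lDef P (nat_lit 1) (Nat.mod (T_k u) M) u) (dp_k_10 j u) (Nat.ble (nat_lit 9) j)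
noncomputable def dp_k_12 (j u : ℕ) : Bool :=
  Bool.rec (motive := fun _ => Bool) (lF3 T_b T_k T_b M (Nat.sub (T_k u) (Nat.mod (T_k u) M)) (Nat.mod (T_k u) M) u) (dp_k_11 j u) (Nat.ble (nat_lit 8) j)
noncomputable def dp_k_13 (j u : ℕ) : Bool :=
  Bool.rec (motive := fun _ => Bool) (lF3 T_c T_k T_c M (Nat.sub (T_k u) (Nat.mod (T_k u) M)) (Nat.mod (T_k u) M) u) (dp_k_12 j u) (Nat.ble (nat_lit 7) j)
noncomputable def dp_k_14 (j u : ℕ) : Bool :=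
  Bool.rec (motive := fun _ => Bool) (lF3 T_d T_k T_d M (Nat.sub (T_k u) (Nat.mod (T_k u) M)) (Nat.mod (T_k u) M) u) (dp_k_13 j u) (Nat.ble (nat_lit 6) j)
noncomputable def dp_k_15 (j u : ℕ) : Bool :=
  Bool.rec (motive := fun _ => Bool) (Bool.rec (motive := fun _ => Bool) (lF3 T_f T_k T_f M (Nat.sub (T_k u) (Nat.mod (T_k u) M)) (Nat.mod (T_k u) M) u) (Bool.rec (motive := fun _ => Bool) (lF3 T_h T_k T_h M (Nat.sub (T_k u) (Nat.mod (T_k u) M)) (Nat.mod (T_k u) M) u) (lF3 T_i T_k T_i M (Nat.sub (T_k u) (Nat.mod (T_k u) M)) (Nat.mod (T_k u) M) u) (Nat.ble (nat_lit 4) j)) (Nat.ble (nat_lit 3) j)) (dp_k_14 j u) (Nat.ble (nat_lit 5) j)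
noncomputable def disp_k (j u : ℕ) : Bool :=
  Bool.rec (motive := fun _ => Bool) (Bool.rec (motive := fun _ => Bool) (lF1 T_k M (Nat.sub (T_k u) (Nat.mod (T_k u) M)) (Nat.mod (T_k u) M) u) (lF3 T_e T_k T_e M (Nat.sub (T_k u) (Nat.mod (T_k u) M)) (Nat.mod (T_k u) M) u) (Nat.ble (nat_lit 1) j)) (dp_k_15 j u) (Nat.ble (nat_lit 2) j)
noncomputable def chk_k (j u : ℕ) : Bool :=
  Bool.rec (motive := fun _ => Bool) (disp_k j u) (Nat.ble (Nat.succ (MG u)) A) (Nat.ble A (T_k u))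
noncomputable def dp_a_0 (j u : ℕ) : Bool :=
  Bool.rec (motive := fun _ => Bool) (lS MG [T_d, T_a, T_d] M (Nat.sub (T_a u) (Nat.mod (T_a u) M)) (nat_lit 40) (Nat.mod (T_a u) M) u) (lS MG [T_h, T_a, T_h] M (Nat.sub (T_a u) (Nat.mod (T_a u) M)) (nat_lit 40) (Nat.mod (T_a u) M) u) (Nat.ble (nat_lit 16) j)
noncomputable def dp_a_1 (j u : ℕ) : Bool :=
  Bool.rec (motive := fun _ => Bool) (lH [] [] M (Nat.sub (T_a u) (Nat.mod (T_a u) M)) (Nat.mod (T_a u) M) u) (lS MG [T_l, T_a, T_l] M (Nat.sub (T_a u) (Nat.mod (T_a u) M)) (nat_lit 40) (Nat.mod (T_a u) M) u) (Nat.ble (nat_lit 19) j)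
noncomputable def dp_a_2 (j u : ℕ) : Bool :=
  Bool.rec (motive := fun _ => Bool) (lS MG [T_c, T_a, T_c] M (Nat.sub (T_a u) (Nat.mod (T_a u) M)) (nat_lit 40) (Nat.mod (T_a u) M) u) (dp_a_1 j u) (Nat.ble (nat_lit 18) j)
noncomputable def dp_a_3 (j u : ℕ) : Bool :=
  Bool.rec (motive := fun _ => Bool) (dp_a_0 j u) (dp_a_2 j u) (Nat.ble (nat_lit 17) j)
noncomputable def dp_a_4 (j u : ℕ) : Bool :=
  Bool.rec (motive := fun _ => Bool) (lS MG [T_f, T_a, T_f] M (Nat.sub (T_a u) (Nat.mod (T_a u) M)) (nat_lit 40) (Nat.mod (T_a u) M) u) (dp_a_3 j u) (Nat.ble (nat_lit 15) j)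
noncomputable def dp_a_5 (j u : ℕ) : Bool :=
  Bool.rec (motive := fun _ => Bool) (lS MG [T_i, T_a, T_i] M (Nat.sub (T_a u) (Nat.mod (T_a u) M)) (nat_lit 40) (Nat.mod (T_a u) M) u) (dp_a_4 j u) (Nat.ble (nat_lit 14) j)
noncomputable def dp_a_6 (j u : ℕ) : Bool :=
  Bool.rec (motive := fun _ => Bool) (lF [T_b, T_a, T_b, T_a, T_b] M (Nat.sub (T_a u) (Nat.mod (T_a u) M)) (Nat.mod (T_a u) M) u) (dp_a_5 j u) (Nat.ble (nat_lit 13) j)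
noncomputable def dp_a_7 (j u : ℕ) : Bool :=
  Bool.rec (motive := fun _ => Bool) (lF [T_k, T_a, T_k, T_a, T_k] M (Nat.sub (T_a u) (Nat.mod (T_a u) M)) (Nat.mod (T_a u) M) u) (dp_a_6 j u) (Nat.ble (nat_lit 12) j)
noncomputable def dp_a_8 (j u : ℕ) : Bool :=
  Bool.rec (motive := fun _ => Bool) (lS MG [T_a] M (Nat.sub (T_a u) (Nat.mod (T_a u) M)) (nat_lit 40) (Nat.mod (T_a u) M) u) (dp_a_7 j u) (Nat.ble (nat_lit 11) j)
noncomputable def dp_a_9 (j u : ℕ) : Bool :=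
  Bool.rec (motive := fun _ => Bool) (lF3 T_l T_a T_l M (Nat.sub (T_a u) (Nat.mod (T_a u) M)) (Nat.mod (T_a u) M) u) (dp_a_8 j u) (Nat.ble (nat_lit 10) j)
noncomputable def dp_a_10 (j u : ℕ) : Bool :=
  Bool.rec (motive := fun _ => Bool) (lDef P (nat_lit 2) u (Nat.mod (T_a u) M)) (dp_a_9 j u) (Nat.ble (nat_lit 9) j)
noncomputable def dp_a_11 (j u : ℕ) : Bool :=
  Bool.rec (motive := fun _ => Bool) (lDef P (nat_lit 2) (Nat.mod (T_a u) M) u) (dp_a_10 j u) (Nat.ble (nat_lit 8) j)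
noncomputable def dp_a_12 (j u : ℕ) : Bool :=
  Bool.rec (motive := fun _ => Bool) (lF3 T_f T_a T_f M (Nat.sub (T_a u) (Nat.mod (T_a u) M)) (Nat.mod (T_a u) M) u) (dp_a_11 j u) (Nat.ble (nat_lit 7) j)
noncomputable def dp_a_13 (j u : ℕ) : Bool :=
  Bool.rec (motive := fun _ => Bool) (lF3 T_i T_a T_i M (Nat.sub (T_a u) (Nat.mod (T_a u) M)) (Nat.mod (T_a u) M) u) (dp_a_12 j u) (Nat.ble (nat_lit 6) j)
noncomputable def dp_a_14 (j u : ℕ) : Bool :=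
  Bool.rec (motive := fun _ => Bool) (Bool.rec (motive := fun _ => Bool) (lF3 T_h T_a T_h M (Nat.sub (T_a u) (Nat.mod (T_a u) M)) (Nat.mod (T_a u) M) u) (Bool.rec (motive := fun _ => Bool) (lF3 T_e T_a T_e M (Nat.sub (T_a u) (Nat.mod (T_a u) M)) (Nat.mod (T_a u) M) u) (lF3 T_c T_a T_c M (Nat.sub (T_a u) (Nat.mod (T_a u) M)) (Nat.mod (T_a u) M) u) (Nat.ble (nat_lit 4) j)) (Nat.ble (nat_lit 3) j)) (dp_a_13 j u) (Nat.ble (nat_lit 5) j)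
noncomputable def disp_a (j u : ℕ) : Bool :=
  Bool.rec (motive := fun _ => Bool) (Bool.rec (motive := fun _ => Bool) (lF1 T_a M (Nat.sub (T_a u) (Nat.mod (T_a u) M)) (Nat.mod (T_a u) M) u) (lF3 T_d T_a T_d M (Nat.sub (T_a u) (Nat.mod (T_a u) M)) (Nat.mod (T_a u) M) u) (Nat.ble (nat_lit 1) j)) (dp_a_14 j u) (Nat.ble (nat_lit 2) j)
noncomputable def chk_a (j u : ℕ) : Bool :=
  Bool.rec (motive := fun _ => Bool) (disp_a j u) (Nat.ble (Nat.succ (MG u)) A) (Nat.ble A (T_a u))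
noncomputable def dp_b_0 (j u : ℕ) : Bool :=
  Bool.rec (motive := fun _ => Bool) (lF [T_a, T_h, T_f, T_e, T_d, T_c, T_b, T_a, T_h, T_f, T_e, T_d, T_c, T_b, T_a, T_h, T_f, T_e, T_d, T_c, T_b, T_a, T_h, T_f, T_e, T_d, T_c, T_b, T_a, T_h, T_f, T_e, T_d, T_c, T_b, T_a, T_l, T_h, T_f, T_e, T_d, T_c, T_b, T_a, T_h, T_f, T_e, T_d, T_c, T_b, T_a, T_h, T_f, T_e, T_d, T_c, T_b, T_a, T_h, T_f, T_e, T_d, T_c] M (Nat.sub (T_b u) (Nat.mod (T_b u) M)) (Nat.mod (T_b u) M) u) (lS MG [T_k, T_b, T_k] M (Nat.sub (T_b u) (Nat.mod (T_b u) M)) (nat_lit 40) (Nat.mod (T_b u) M) u) (Nat.ble (nat_lit 19) j)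
noncomputable def dp_b_1 (j u : ℕ) : Bool :=
  Bool.rec (motive := fun _ => Bool) (lH [] [] M (Nat.sub (T_b u) (Nat.mod (T_b u) M)) (Nat.mod (T_b u) M) u) (dp_b_0 j u) (Nat.ble (nat_lit 18) j)
noncomputable def dp_b_2 (j u : ℕ) : Bool :=
  Bool.rec (motive := fun _ => Bool) (lS MG [T_e, T_b, T_e] M (Nat.sub (T_b u) (Nat.mod (T_b u) M)) (nat_lit 40) (Nat.mod (T_b u) M) u) (dp_b_1 j u) (Nat.ble (nat_lit 17) j)
noncomputable def dp_b_3 (j u : ℕ) : Bool :=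
  Bool.rec (motive := fun _ => Bool) (lS MG [T_d, T_b, T_d] M (Nat.sub (T_b u) (Nat.mod (T_b u) M)) (nat_lit 40) (Nat.mod (T_b u) M) u) (dp_b_2 j u) (Nat.ble (nat_lit 16) j)
noncomputable def dp_b_4 (j u : ℕ) : Bool :=
  Bool.rec (motive := fun _ => Bool) (lS MG [T_f, T_b, T_f] M (Nat.sub (T_b u) (Nat.mod (T_b u) M)) (nat_lit 40) (Nat.mod (T_b u) M) u) (dp_b_3 j u) (Nat.ble (nat_lit 15) j)
noncomputable def dp_b_5 (j u : ℕ) : Bool :=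
  Bool.rec (motive := fun _ => Bool) (lS MG [T_i, T_b, T_i] M (Nat.sub (T_b u) (Nat.mod (T_b u) M)) (nat_lit 40) (Nat.mod (T_b u) M) u) (dp_b_4 j u) (Nat.ble (nat_lit 14) j)
noncomputable def dp_b_6 (j u : ℕ) : Bool :=
  Bool.rec (motive := fun _ => Bool) (lF [T_c, T_b, T_c, T_b, T_c] M (Nat.sub (T_b u) (Nat.mod (T_b u) M)) (Nat.mod (T_b u) M) u) (dp_b_5 j u) (Nat.ble (nat_lit 13) j)
noncomputable def dp_b_7 (j u : ℕ) : Bool :=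
  Bool.rec (motive := fun _ => Bool) (lF [T_a, T_b, T_a, T_b, T_a] M (Nat.sub (T_b u) (Nat.mod (T_b u) M)) (Nat.mod (T_b u) M) u) (dp_b_6 j u) (Nat.ble (nat_lit 12) j)
noncomputable def dp_b_8 (j u : ℕ) : Bool :=
  Bool.rec (motive := fun _ => Bool) (lS MG [T_b] M (Nat.sub (T_b u) (Nat.mod (T_b u) M)) (nat_lit 40) (Nat.mod (T_b u) M) u) (dp_b_7 j u) (Nat.ble (nat_lit 11) j)
noncomputable def dp_b_9 (j u : ℕ) : Bool :=
  Bool.rec (motive := fun _ => Bool) (lDef P (nat_lit 3) u (Nat.mod (T_b u) M)) (dp_b_8 j u) (Nat.ble (nat_lit 10) j)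
noncomputable def dp_b_10 (j u : ℕ) : Bool :=
  Bool.rec (motive := fun _ => Bool) (lDef P (nat_lit 3) (Nat.mod (T_b u) M) u) (dp_b_9 j u) (Nat.ble (nat_lit 9) j)
noncomputable def dp_b_11 (j u : ℕ) : Bool :=
  Bool.rec (motive := fun _ => Bool) (lF3 T_d T_b T_d M (Nat.sub (T_b u) (Nat.mod (T_b u) M)) (Nat.mod (T_b u) M) u) (dp_b_10 j u) (Nat.ble (nat_lit 8) j)
noncomputable def dp_b_12 (j u : ℕ) : Bool :=
  Bool.rec (motive := fun _ => Bool) (Bool.rec (motive := fun _ => Bool) (lF3 T_f T_b T_f M (Nat.sub (T_b u) (Nat.mod (T_b u) M)) (Nat.mod (T_b u) M) u) (lF3 T_k T_b T_k M (Nat.sub (T_b u) (Nat.mod (T_b u) M)) (Nat.mod (T_b u) M) u) (Nat.ble (nat_lit 6) j)) (dp_b_11 j u) (Nat.ble (nat_lit 7) j)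
noncomputable def disp_b (j u : ℕ) : Bool :=
  Bool.rec (motive := fun _ => Bool) (Bool.rec (motive := fun _ => Bool) (lF1 T_b M (Nat.sub (T_b u) (Nat.mod (T_b u) M)) (Nat.mod (T_b u) M) u) (lF3 T_h T_b T_h M (Nat.sub (T_b u) (Nat.mod (T_b u) M)) (Nat.mod (T_b u) M) u) (Nat.ble (nat_lit 1) j)) (Bool.rec (motive := fun _ => Bool) (Bool.rec (motive := fun _ => Bool) (lF3 T_i T_b T_i M (Nat.sub (T_b u) (Nat.mod (T_b u) M)) (Nat.mod (T_b u) M) u) (Bool.rec (motive := fun _ => Bool) (lF3 T_l T_b T_l M (Nat.sub (T_b u) (Nat.mod (T_b u) M)) (Nat.mod (T_b u) M) u) (lF3 T_e T_b T_e M (Nat.sub (T_b u) (Nat.mod (T_b u) M)) (Nat.mod (T_b u) M) u) (Nat.ble (nat_lit 4) j)) (Nat.ble (nat_lit 3) j)) (dp_b_12 j u) (Nat.ble (nat_lit 5) j)) (Nat.ble (nat_lit 2) j)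
noncomputable def chk_b (j u : ℕ) : Bool :=
  Bool.rec (motive := fun _ => Bool) (disp_b j u) (Nat.ble (Nat.succ (MG u)) A) (Nat.ble A (T_b u))
noncomputable def dp_c_0 (j u : ℕ) : Bool :=
  Bool.rec (motive := fun _ => Bool) (lS MG [T_i, T_c, T_i] M (Nat.sub (T_c u) (Nat.mod (T_c u) M)) (nat_lit 40) (Nat.mod (T_c u) M) u) (lS MG [T_f, T_c, T_f] M (Nat.sub (T_c u) (Nat.mod (T_c u) M)) (nat_lit 40) (Nat.mod (T_c u) M) u) (Nat.ble (nat_lit 14) j)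
noncomputable def dp_c_1 (j u : ℕ) : Bool :=
  Bool.rec (motive := fun _ => Bool) (lS MG [T_a, T_c, T_a] M (Nat.sub (T_c u) (Nat.mod (T_c u) M)) (nat_lit 40) (Nat.mod (T_c u) M) u) (lS MG [T_h, T_c, T_h] M (Nat.sub (T_c u) (Nat.mod (T_c u) M)) (nat_lit 40) (Nat.mod (T_c u) M) u) (Nat.ble (nat_lit 16) j)
noncomputable def dp_c_2 (j u : ℕ) : Bool :=
  Bool.rec (motive := fun _ => Bool) (lF [T_d, T_e, T_f, T_h, T_a, T_b, T_c, T_d, T_e, T_f, T_h, T_a, T_b, T_c, T_d, T_e, T_f, T_h, T_a, T_b, T_c, T_d, T_e, T_f, T_h, T_a, T_b, T_c, T_d, T_e, T_f, T_h, T_l, T_a, T_b, T_c, T_d, T_e, T_f, T_h, T_a, T_b, T_c, T_d, T_e, T_f, T_h, T_a, T_b, T_c, T_d, T_e, T_f, T_h, T_a, T_b, T_c, T_d, T_e, T_f, T_h, T_a, T_b] M (Nat.sub (T_c u) (Nat.mod (T_c u) M)) (Nat.mod (T_c u) M) u) (lS MG [T_k, T_c, T_k] M (Nat.sub (T_c u) (Nat.mod (T_c u) M)) (nat_lit 40) (Nat.mod (T_c u)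 M) u) (Nat.ble (nat_lit 20) j)
noncomputable def dp_c_3 (j u : ℕ) : Bool :=
  Bool.rec (motive := fun _ => Bool) (lH [] [] M (Nat.sub (T_c u) (Nat.mod (T_c u) M)) (Nat.mod (T_c u) M) u) (dp_c_2 j u) (Nat.ble (nat_lit 19) j)
noncomputable def dp_c_4 (j u : ℕ) : Bool :=
  Bool.rec (motive := fun _ => Bool) (lS MG [T_e, T_c, T_e] M (Nat.sub (T_c u) (Nat.mod (T_c u) M)) (nat_lit 40) (Nat.mod (T_c u) M) u) (dp_c_3 j u) (Nat.ble (nat_lit 18) j)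
noncomputable def dp_c_5 (j u : ℕ) : Bool :=
  Bool.rec (motive := fun _ => Bool) (dp_c_1 j u) (dp_c_4 j u) (Nat.ble (nat_lit 17) j)
noncomputable def dp_c_6 (j u : ℕ) : Bool :=
  Bool.rec (motive := fun _ => Bool) (dp_c_0 j u) (dp_c_5 j u) (Nat.ble (nat_lit 15) j)
noncomputable def dp_c_7 (j u : ℕ) : Bool :=
  Bool.rec (motive := fun _ => Bool) (lF [T_d, T_c, T_d, T_c, T_d] M (Nat.sub (T_c u) (Nat.mod (T_c u) M)) (Nat.mod (T_c u) M) u) (dp_c_6 j u) (Nat.ble (nat_lit 13) j)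
noncomputable def dp_c_8 (j u : ℕ) : Bool :=
  Bool.rec (motive := fun _ => Bool) (lF [T_b, T_c, T_b, T_c, T_b] M (Nat.sub (T_c u) (Nat.mod (T_c u) M)) (Nat.mod (T_c u) M) u) (dp_c_7 j u) (Nat.ble (nat_lit 12) j)
noncomputable def dp_c_9 (j u : ℕ) : Bool :=
  Bool.rec (motive := fun _ => Bool) (lS MG [T_c] M (Nat.sub (T_c u) (Nat.mod (T_c u) M)) (nat_lit 40) (Nat.mod (T_c u) M) u) (dp_c_8 j u) (Nat.ble (nat_lit 11) j)
noncomputable def dp_c_10 (j u : ℕ) : Bool :=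
  Bool.rec (motive := fun _ => Bool) (lF3 T_a T_c T_a M (Nat.sub (T_c u) (Nat.mod (T_c u) M)) (Nat.mod (T_c u) M) u) (dp_c_9 j u) (Nat.ble (nat_lit 10) j)
noncomputable def dp_c_11 (j u : ℕ) : Bool :=
  Bool.rec (motive := fun _ => Bool) (lF3 T_e T_c T_e M (Nat.sub (T_c u) (Nat.mod (T_c u) M)) (Nat.mod (T_c u) M) u) (dp_c_10 j u) (Nat.ble (nat_lit 9) j)
noncomputable def dp_c_12 (j u : ℕ) : Bool :=
  Bool.rec (motive := fun _ => Bool) (Bool.rec (motive := fun _ => Bool) (lF3 T_i T_c T_i M (Nat.sub (T_c u) (Nat.mod (T_c u) M)) (Nat.mod (T_c u) M) u) (lF3 T_f T_c T_f M (Nat.sub (T_c u) (Nat.mod (T_c u) M)) (Nat.mod (T_c u) M) u) (Nat.ble (nat_lit 7) j)) (dp_c_11 j u) (Nat.ble (nat_lit 8) j)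
noncomputable def dp_c_13 (j u : ℕ) : Bool :=
  Bool.rec (motive := fun _ => Bool) (Bool.rec (motive := fun _ => Bool) (lF3 T_l T_c T_l M (Nat.sub (T_c u) (Nat.mod (T_c u) M)) (Nat.mod (T_c u) M) u) (Bool.rec (motive := fun _ => Bool) (lF3 T_h T_c T_h M (Nat.sub (T_c u) (Nat.mod (T_c u) M)) (Nat.mod (T_c u) M) u) (lF3 T_k T_c T_k M (Nat.sub (T_c u) (Nat.mod (T_c u) M)) (Nat.mod (T_c u) M) u) (Nat.ble (nat_lit 5) j)) (Nat.ble (nat_lit 4) j)) (dp_c_12 j u) (Nat.ble (nat_lit 6) j)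
noncomputable def disp_c (j u : ℕ) : Bool :=
  Bool.rec (motive := fun _ => Bool) (Bool.rec (motive := fun _ => Bool) (lF1 T_c M (Nat.sub (T_c u) (Nat.mod (T_c u) M)) (Nat.mod (T_c u) M) u) (Bool.rec (motive := fun _ => Bool) (lDef P (nat_lit 4) (Nat.mod (T_c u) M) u) (lDef P (nat_lit 4) u (Nat.mod (T_c u) M)) (Nat.ble (nat_lit 2) j)) (Nat.ble (nat_lit 1) j)) (dp_c_13 j u) (Nat.ble (nat_lit 3) j)
noncomputable def chk_c (j u : ℕ) : Bool :=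
  Bool.rec (motive := fun _ => Bool) (disp_c j u) (Nat.ble (Nat.succ (MG u)) A) (Nat.ble A (T_c u))
noncomputable def dp_d_0 (j u : ℕ) : Bool :=
  Bool.rec (motive := fun _ => Bool) (lS MG [T_i, T_d, T_i] M (Nat.sub (T_d u) (Nat.mod (T_d u) M)) (nat_lit 40) (Nat.mod (T_d u) M) u) (lS MG [T_b, T_d, T_b] M (Nat.sub (T_d u) (Nat.mod (T_d u) M)) (nat_lit 40) (Nat.mod (T_d u) M) u) (Nat.ble (nat_lit 14) j)
noncomputable def dp_d_1 (j u : ℕ) : Bool :=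
  Bool.rec (motive := fun _ => Bool) (lS MG [T_e, T_f, T_h, T_a, T_b, T_c, T_d, T_e, T_f, T_h, T_a, T_b, T_c, T_d, T_e, T_f, T_h, T_l, T_a, T_b, T_c, T_d, T_e, T_f, T_h, T_a, T_b, T_c, T_d, T_e, T_f, T_h, T_a, T_b, T_c, T_d, T_e, T_f, T_h, T_a, T_b, T_c, T_d, T_e, T_f, T_h, T_a, T_b, T_c, T_d, T_e, T_f, T_h, T_a, T_b, T_c, T_d, T_e, T_f, T_h, T_a, T_b, T_c] M (Nat.sub (T_d u) (Nat.mod (T_d u) M)) (nat_lit 40) (Nat.mod (T_d u) M) u) (lS MG [T_f, T_d, T_f] M (Nat.sub (T_d u) (Nat.mod (T_d u) M)) (nat_lit 40) (Nat.mod (T_d u) M) u) (Nat.ble (nat_lit 16) j)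
noncomputable def dp_d_2 (j u : ℕ) : Bool :=
  Bool.rec (motive := fun _ => Bool) (lF [T_c, T_b, T_a, T_h, T_f, T_e, T_d, T_c, T_b, T_a, T_h, T_f, T_e, T_d, T_c, T_b, T_a, T_h, T_f, T_e, T_d, T_c, T_b, T_a, T_h, T_f, T_e, T_d, T_c, T_b, T_a, T_h, T_f, T_e, T_d, T_c, T_b, T_a, T_h, T_f, T_e, T_d, T_c, T_b, T_a, T_h, T_f, T_e, T_d, T_c, T_b, T_a, T_h, T_f, T_e, T_d, T_c, T_b, T_a, T_l, T_h, T_f, T_e] M (Nat.sub (T_d u) (Nat.mod (T_d u) M)) (Nat.mod (T_d u) M) u) (lS MG [T_k, T_d, T_k] M (Nat.sub (T_d u) (Nat.mod (T_d u) M)) (nat_lit 40) (Nat.mod (T_d u) M) u) (Nat.ble (nat_lit 19) j)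
noncomputable def dp_d_3 (j u : ℕ) : Bool :=
  Bool.rec (motive := fun _ => Bool) (lH [] [] M (Nat.sub (T_d u) (Nat.mod (T_d u) M)) (Nat.mod (T_d u) M) u) (dp_d_2 j u) (Nat.ble (nat_lit 18) j)
noncomputable def dp_d_4 (j u : ℕ) : Bool :=
  Bool.rec (motive := fun _ => Bool) (dp_d_1 j u) (dp_d_3 j u) (Nat.ble (nat_lit 17) j)
noncomputable def dp_d_5 (j u : ℕ) : Bool :=
  Bool.rec (motive := fun _ => Bool) (dp_d_0 j u) (dp_d_4 j u) (Nat.ble (nat_lit 15) j)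
noncomputable def dp_d_6 (j u : ℕ) : Bool :=
  Bool.rec (motive := fun _ => Bool) (lS MG [T_d] M (Nat.sub (T_d u) (Nat.mod (T_d u) M)) (nat_lit 40) (Nat.mod (T_d u) M) u) (dp_d_5 j u) (Nat.ble (nat_lit 13) j)
noncomputable def dp_d_7 (j u : ℕ) : Bool :=
  Bool.rec (motive := fun _ => Bool) (lF [T_h, T_d, T_h, T_d, T_h] M (Nat.sub (T_d u) (Nat.mod (T_d u) M)) (Nat.mod (T_d u) M) u) (dp_d_6 j u) (Nat.ble (nat_lit 12) j)
noncomputable def dp_d_8 (j u : ℕ) : Bool :=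
  Bool.rec (motive := fun _ => Bool) (lF [T_e, T_d, T_e, T_d, T_e] M (Nat.sub (T_d u) (Nat.mod (T_d u) M)) (Nat.mod (T_d u) M) u) (dp_d_7 j u) (Nat.ble (nat_lit 11) j)
noncomputable def dp_d_9 (j u : ℕ) : Bool :=
  Bool.rec (motive := fun _ => Bool) (lF [T_c, T_d, T_c, T_d, T_c] M (Nat.sub (T_d u) (Nat.mod (T_d u) M)) (Nat.mod (T_d u) M) u) (dp_d_8 j u) (Nat.ble (nat_lit 10) j)
noncomputable def dp_d_10 (j u : ℕ) : Bool :=
  Bool.rec (motive := fun _ => Bool) (lF3 T_b T_d T_b M (Nat.sub (T_d u) (Nat.mod (T_d u) M)) (Nat.mod (T_d u) M) u) (dp_d_9 j u) (Nat.ble (nat_lit 9) j)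
noncomputable def dp_d_11 (j u : ℕ) : Bool :=
  Bool.rec (motive := fun _ => Bool) (lF3 T_l T_d T_l M (Nat.sub (T_d u) (Nat.mod (T_d u) M)) (Nat.mod (T_d u) M) u) (dp_d_10 j u) (Nat.ble (nat_lit 8) j)
noncomputable def dp_d_12 (j u : ℕ) : Bool :=
  Bool.rec (motive := fun _ => Bool) (Bool.rec (motive := fun _ => Bool) (lF3 T_f T_d T_f M (Nat.sub (T_d u) (Nat.mod (T_d u) M)) (Nat.mod (T_d u) M) u) (lF3 T_i T_d T_i M (Nat.sub (T_d u) (Nat.mod (T_d u) M)) (Nat.mod (T_d u) M) u) (Nat.ble (nat_lit 6) j)) (dp_d_11 j u) (Nat.ble (nat_lit 7) j)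
noncomputable def disp_d (j u : ℕ) : Bool :=
  Bool.rec (motive := fun _ => Bool) (Bool.rec (motive := fun _ => Bool) (lF1 T_d M (Nat.sub (T_d u) (Nat.mod (T_d u) M)) (Nat.mod (T_d u) M) u) (lDef P (nat_lit 5) (Nat.mod (T_d u) M) u) (Nat.ble (nat_lit 1) j)) (Bool.rec (motive := fun _ => Bool) (Bool.rec (motive := fun _ => Bool) (lDef P (nat_lit 5) u (Nat.mod (T_d u) M)) (Bool.rec (motive := fun _ => Bool) (lF3 T_k T_d T_k M (Nat.sub (T_d u) (Nat.mod (T_d u) M)) (Nat.mod (T_d u) M) u) (lF3 T_a T_d T_a M (Nat.sub (T_d u) (Nat.mod (T_d u) M)) (Nat.mod (T_d u) M) u) (Nat.ble (nat_lit 4) j)) (Nat.ble (nat_lit 3) j)) (dp_d_12 j u) (Nat.ble (nat_lit 5) j)) (Nat.ble (nat_lit 2) j)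
noncomputable def chk_d (j u : ℕ) : Bool :=
  Bool.rec (motive := fun _ => Bool) (disp_d j u) (Nat.ble (Nat.succ (MG u)) A) (Nat.ble A (T_d u))
noncomputable def dp_e_0 (j u : ℕ) : Bool :=
  Bool.rec (motive := fun _ => Bool) (lS MG [T_i, T_e, T_i] M (Nat.sub (T_e u) (Nat.mod (T_e u) M)) (nat_lit 40) (Nat.mod (T_e u) M) u) (lS MG [T_a, T_e, T_a] M (Nat.sub (T_e u) (Nat.mod (T_e u) M)) (nat_lit 40) (Nat.mod (T_e u) M) u) (Nat.ble (nat_lit 14) j)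
noncomputable def dp_e_1 (j u : ℕ) : Bool :=
  Bool.rec (motive := fun _ => Bool) (lS MG [T_k, T_e, T_k] M (Nat.sub (T_e u) (Nat.mod (T_e u) M)) (nat_lit 40) (Nat.mod (T_e u) M) u) (lS MG [T_h, T_e, T_h] M (Nat.sub (T_e u) (Nat.mod (T_e u) M)) (nat_lit 40) (Nat.mod (T_e u) M) u) (Nat.ble (nat_lit 19) j)
noncomputable def dp_e_2 (j u : ℕ) : Bool :=
  Bool.rec (motive := fun _ => Bool) (lH [] [] M (Nat.sub (T_e u) (Nat.mod (T_e u) M)) (Nat.mod (T_e u) M) u) (dp_e_1 j u) (Nat.ble (nat_lit 18) j)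
noncomputable def dp_e_3 (j u : ℕ) : Bool :=
  Bool.rec (motive := fun _ => Bool) (lS MG [T_b, T_e, T_b] M (Nat.sub (T_e u) (Nat.mod (T_e u) M)) (nat_lit 40) (Nat.mod (T_e u) M) u) (dp_e_2 j u) (Nat.ble (nat_lit 17) j)
noncomputable def dp_e_4 (j u : ℕ) : Bool :=
  Bool.rec (motive := fun _ => Bool) (lS MG [T_c, T_e, T_c] M (Nat.sub (T_e u) (Nat.mod (T_e u) M)) (nat_lit 40) (Nat.mod (T_e u) M) u) (dp_e_3 j u) (Nat.ble (nat_lit 16) j)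
noncomputable def dp_e_5 (j u : ℕ) : Bool :=
  Bool.rec (motive := fun _ => Bool) (dp_e_0 j u) (dp_e_4 j u) (Nat.ble (nat_lit 15) j)
noncomputable def dp_e_6 (j u : ℕ) : Bool :=
  Bool.rec (motive := fun _ => Bool) (lF [T_f, T_e, T_f, T_e, T_f] M (Nat.sub (T_e u) (Nat.mod (T_e u) M)) (Nat.mod (T_e u) M) u) (dp_e_5 j u) (Nat.ble (nat_lit 13) j)
noncomputable def dp_e_7 (j u : ℕ) : Bool :=
  Bool.rec (motive := fun _ => Bool) (lS MG [T_e] M (Nat.sub (T_e u) (Nat.mod (T_e u) M)) (nat_lit 40) (Nat.mod (T_e u) M) u) (dp_e_6 j u) (Nat.ble (nat_lit 12) j)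
noncomputable def dp_e_8 (j u : ℕ) : Bool :=
  Bool.rec (motive := fun _ => Bool) (lF [T_d, T_e, T_d, T_e, T_d] M (Nat.sub (T_e u) (Nat.mod (T_e u) M)) (Nat.mod (T_e u) M) u) (dp_e_7 j u) (Nat.ble (nat_lit 11) j)
noncomputable def dp_e_9 (j u : ℕ) : Bool :=
  Bool.rec (motive := fun _ => Bool) (lF3 T_c T_e T_c M (Nat.sub (T_e u) (Nat.mod (T_e u) M)) (Nat.mod (T_e u) M) u) (dp_e_8 j u) (Nat.ble (nat_lit 10) j)
noncomputable def dp_e_10 (j u : ℕ) : Bool :=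
  Bool.rec (motive := fun _ => Bool) (lF3 T_b T_e T_b M (Nat.sub (T_e u) (Nat.mod (T_e u) M)) (Nat.mod (T_e u) M) u) (dp_e_9 j u) (Nat.ble (nat_lit 9) j)
noncomputable def dp_e_11 (j u : ℕ) : Bool :=
  Bool.rec (motive := fun _ => Bool) (lF3 T_a T_e T_a M (Nat.sub (T_e u) (Nat.mod (T_e u) M)) (Nat.mod (T_e u) M) u) (dp_e_10 j u) (Nat.ble (nat_lit 8) j)
noncomputable def dp_e_12 (j u : ℕ) : Bool :=
  Bool.rec (motive := fun _ => Bool) (lF3 T_k T_e T_k M (Nat.sub (T_e u) (Nat.mod (T_e u) M)) (Nat.mod (T_e u) M) u) (dp_e_11 j u) (Nat.ble (nat_lit 7) j)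
noncomputable def dp_e_13 (j u : ℕ) : Bool :=
  Bool.rec (motive := fun _ => Bool) (Bool.rec (motive := fun _ => Bool) (lF3 T_i T_e T_i M (Nat.sub (T_e u) (Nat.mod (T_e u) M)) (Nat.mod (T_e u) M) u) (lF3 T_l T_e T_l M (Nat.sub (T_e u) (Nat.mod (T_e u) M)) (Nat.mod (T_e u) M) u) (Nat.ble (nat_lit 5) j)) (dp_e_12 j u) (Nat.ble (nat_lit 6) j)
noncomputable def disp_e (j u : ℕ) : Bool :=
  Bool.rec (motive := fun _ => Bool) (Bool.rec (motive := fun _ => Bool) (lF1 T_e M (Nat.sub (T_e u) (Nat.mod (T_e u) M)) (Nat.mod (T_e u) M) u) (lDef P (nat_lit 6) (Nat.mod (T_e u) M) u) (Nat.ble (nat_lit 1) j)) (Bool.rec (motive := fun _ => Bool) (Bool.rec (motive := fun _ => Bool) (lDef P (nat_lit 6) u (Nat.mod (T_e u) M)) (lF3 T_h T_e T_h M (Nat.sub (T_e u) (Nat.mod (T_e u) M)) (Nat.mod (T_e u) M) u) (Nat.ble (nat_lit 3) j)) (dp_e_13 j u) (Nat.ble (nat_lit 4) j)) (Nat.ble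 (nat_lit 2) j)
noncomputable def chk_e (j u : ℕ) : Bool :=
  Bool.rec (motive := fun _ => Bool) (disp_e j u) (Nat.ble (Nat.succ (MG u)) A) (Nat.ble A (T_e u))
noncomputable def dp_f_0 (j u : ℕ) : Bool :=
  Bool.rec (motive := fun _ => Bool) (lF3 T_k T_f T_k M (Nat.sub (T_f u) (Nat.mod (T_f u) M)) (Nat.mod (T_f u) M) u) (lF3 T_d T_f T_d M (Nat.sub (T_f u) (Nat.mod (T_f u) M)) (Nat.mod (T_f u) M) u) (Nat.ble (nat_lit 7) j)
noncomputable def dp_f_1 (j u : ℕ) : Bool :=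
  Bool.rec (motive := fun _ => Bool) (lS MG [T_i, T_f, T_i] M (Nat.sub (T_f u) (Nat.mod (T_f u) M)) (nat_lit 40) (Nat.mod (T_f u) M) u) (lS MG [T_b, T_f, T_b] M (Nat.sub (T_f u) (Nat.mod (T_f u) M)) (nat_lit 40) (Nat.mod (T_f u) M) u) (Nat.ble (nat_lit 14) j)
noncomputable def dp_f_2 (j u : ℕ) : Bool :=
  Bool.rec (motive := fun _ => Bool) (lS MG [T_h, T_f, T_h] M (Nat.sub (T_f u) (Nat.mod (T_f u) M)) (nat_lit 40) (Nat.mod (T_f u) M) u) (lS MG [T_a, T_f, T_a] M (Nat.sub (T_f u) (Nat.mod (T_f u) M)) (nat_lit 40) (Nat.mod (T_f u) M) u) (Nat.ble (nat_lit 16) j)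
noncomputable def dp_f_3 (j u : ℕ) : Bool :=
  Bool.rec (motive := fun _ => Bool) (lS MG [T_l, T_f, T_l] M (Nat.sub (T_f u) (Nat.mod (T_f u) M)) (nat_lit 40) (Nat.mod (T_f u) M) u) (lH [] [] M (Nat.sub (T_f u) (Nat.mod (T_f u) M)) (Nat.mod (T_f u) M) u) (Nat.ble (nat_lit 18) j)
noncomputable def dp_f_4 (j u : ℕ) : Bool :=
  Bool.rec (motive := fun _ => Bool) (lS MG [T_c, T_f, T_c] M (Nat.sub (T_f u) (Nat.mod (T_f u) M)) (nat_lit 40) (Nat.mod (T_f u) M) u) (lS MG [T_k, T_f, T_k] M (Nat.sub (T_f u) (Nat.mod (T_f u) M)) (nat_lit 40) (Nat.mod (T_f u) M) u) (Nat.ble (nat_lit 21) j)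
noncomputable def dp_f_5 (j u : ℕ) : Bool :=
  Bool.rec (motive := fun _ => Bool) (lS MG [T_d, T_f, T_d] M (Nat.sub (T_f u) (Nat.mod (T_f u) M)) (nat_lit 40) (Nat.mod (T_f u) M) u) (dp_f_4 j u) (Nat.ble (nat_lit 20) j)
noncomputable def dp_f_6 (j u : ℕ) : Bool :=
  Bool.rec (motive := fun _ => Bool) (dp_f_3 j u) (dp_f_5 j u) (Nat.ble (nat_lit 19) j)
noncomputable def dp_f_7 (j u : ℕ) : Bool :=
  Bool.rec (motive := fun _ => Bool) (dp_f_2 j u) (dp_f_6 j u) (Nat.ble (nat_lit 17) j)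
noncomputable def dp_f_8 (j u : ℕ) : Bool :=
  Bool.rec (motive := fun _ => Bool) (dp_f_1 j u) (dp_f_7 j u) (Nat.ble (nat_lit 15) j)
noncomputable def dp_f_9 (j u : ℕ) : Bool :=
  Bool.rec (motive := fun _ => Bool) (lF [T_e, T_f, T_e, T_f, T_e] M (Nat.sub (T_f u) (Nat.mod (T_f u) M)) (Nat.mod (T_f u) M) u) (dp_f_8 j u) (Nat.ble (nat_lit 13) j)
noncomputable def dp_f_10 (j u : ℕ) : Bool :=
  Bool.rec (motive := fun _ => Bool) (lS MG [T_f] M (Nat.sub (T_f u) (Nat.mod (T_f u) M)) (nat_lit 40) (Nat.mod (T_f u) M) u) (dp_f_9 j u) (Nat.ble (nat_lit 12) j)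
noncomputable def dp_f_11 (j u : ℕ) : Bool :=
  Bool.rec (motive := fun _ => Bool) (lF3 T_c T_f T_c M (Nat.sub (T_f u) (Nat.mod (T_f u) M)) (Nat.mod (T_f u) M) u) (dp_f_10 j u) (Nat.ble (nat_lit 11) j)
noncomputable def dp_f_12 (j u : ℕ) : Bool :=
  Bool.rec (motive := fun _ => Bool) (lF3 T_b T_f T_b M (Nat.sub (T_f u) (Nat.mod (T_f u) M)) (Nat.mod (T_f u) M) u) (dp_f_11 j u) (Nat.ble (nat_lit 10) j)
noncomputable def dp_f_13 (j u : ℕ) : Bool :=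
  Bool.rec (motive := fun _ => Bool) (lF3 T_a T_f T_a M (Nat.sub (T_f u) (Nat.mod (T_f u) M)) (Nat.mod (T_f u) M) u) (dp_f_12 j u) (Nat.ble (nat_lit 9) j)
noncomputable def dp_f_14 (j u : ℕ) : Bool :=
  Bool.rec (motive := fun _ => Bool) (dp_f_0 j u) (dp_f_13 j u) (Nat.ble (nat_lit 8) j)
noncomputable def dp_f_15 (j u : ℕ) : Bool :=
  Bool.rec (motive := fun _ => Bool) (Bool.rec (motive := fun _ => Bool) (lF3 T_i T_f T_i M (Nat.sub (T_f u) (Nat.mod (T_f u) M)) (Nat.mod (T_f u) M) u) (lF3 T_l T_f T_l M (Nat.sub (T_f u) (Nat.mod (T_f u) M)) (Nat.mod (T_f u) M) u) (Nat.ble (nat_lit 5) j)) (dp_f_14 j u) (Nat.ble (nat_lit 6) j)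
noncomputable def disp_f (j u : ℕ) : Bool :=
  Bool.rec (motive := fun _ => Bool) (Bool.rec (motive := fun _ => Bool) (lF1 T_f M (Nat.sub (T_f u) (Nat.mod (T_f u) M)) (Nat.mod (T_f u) M) u) (lDef P (nat_lit 7) (Nat.mod (T_f u) M) u) (Nat.ble (nat_lit 1) j)) (Bool.rec (motive := fun _ => Bool) (Bool.rec (motive := fun _ => Bool) (lDef P (nat_lit 7) u (Nat.mod (T_f u) M)) (lF3 T_h T_f T_h M (Nat.sub (T_f u) (Nat.mod (T_f u) M)) (Nat.mod (T_f u) M) u) (Nat.ble (nat_lit 3) j)) (dp_f_15 j u) (Nat.ble (nat_lit 4) j)) (Nat.ble (nat_lit 2) j)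
noncomputable def chk_f (j u : ℕ) : Bool :=
  Bool.rec (motive := fun _ => Bool) (disp_f j u) (Nat.ble (Nat.succ (MG u)) A) (Nat.ble A (T_f u))
noncomputable def dp_h_0 (j u : ℕ) : Bool :=
  Bool.rec (motive := fun _ => Bool) (lF3 T_f T_h T_f M (Nat.sub (T_h u) (Nat.mod (T_h u) M)) (Nat.mod (T_h u) M) u) (lF3 T_b T_h T_b M (Nat.sub (T_h u) (Nat.mod (T_h u) M)) (Nat.mod (T_h u) M) u) (Nat.ble (nat_lit 7) j)
noncomputable def dp_h_1 (j u : ℕ) : Bool :=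
  Bool.rec (motive := fun _ => Bool) (lS MG [T_b, T_h, T_b] M (Nat.sub (T_h u) (Nat.mod (T_h u) M)) (nat_lit 40) (Nat.mod (T_h u) M) u) (lS MG [T_f, T_h, T_f] M (Nat.sub (T_h u) (Nat.mod (T_h u) M)) (nat_lit 40) (Nat.mod (T_h u) M) u) (Nat.ble (nat_lit 14) j)
noncomputable def dp_h_2 (j u : ℕ) : Bool :=
  Bool.rec (motive := fun _ => Bool) (lH [] [] M (Nat.sub (T_h u) (Nat.mod (T_h u) M)) (Nat.mod (T_h u) M) u) (lS MG [T_c, T_h, T_c] M (Nat.sub (T_h u) (Nat.mod (T_h u) M)) (nat_lit 40) (Nat.mod (T_h u) M) u) (Nat.ble (nat_lit 19) j)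
noncomputable def dp_h_3 (j u : ℕ) : Bool :=
  Bool.rec (motive := fun _ => Bool) (lS MG [T_k, T_h, T_k] M (Nat.sub (T_h u) (Nat.mod (T_h u) M)) (nat_lit 40) (Nat.mod (T_h u) M) u) (dp_h_2 j u) (Nat.ble (nat_lit 18) j)
noncomputable def dp_h_4 (j u : ℕ) : Bool :=
  Bool.rec (motive := fun _ => Bool) (lS MG [T_a, T_h, T_a] M (Nat.sub (T_h u) (Nat.mod (T_h u) M)) (nat_lit 40) (Nat.mod (T_h u) M) u) (dp_h_3 j u) (Nat.ble (nat_lit 17) j)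
noncomputable def dp_h_5 (j u : ℕ) : Bool :=
  Bool.rec (motive := fun _ => Bool) (lS MG [T_e, T_h, T_e] M (Nat.sub (T_h u) (Nat.mod (T_h u) M)) (nat_lit 40) (Nat.mod (T_h u) M) u) (dp_h_4 j u) (Nat.ble (nat_lit 16) j)
noncomputable def dp_h_6 (j u : ℕ) : Bool :=
  Bool.rec (motive := fun _ => Bool) (dp_h_1 j u) (dp_h_5 j u) (Nat.ble (nat_lit 15) j)
noncomputable def dp_h_7 (j u : ℕ) : Bool :=
  Bool.rec (motive := fun _ => Bool) (lF [T_i, T_h, T_i, T_h, T_i] M (Nat.sub (T_h u) (Nat.mod (T_h u) M)) (Nat.mod (T_h u) M) u) (dp_h_6 j u) (Nat.ble (nat_lit 13) j)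
noncomputable def dp_h_8 (j u : ℕ) : Bool :=
  Bool.rec (motive := fun _ => Bool) (lS MG [T_h] M (Nat.sub (T_h u) (Nat.mod (T_h u) M)) (nat_lit 40) (Nat.mod (T_h u) M) u) (dp_h_7 j u) (Nat.ble (nat_lit 12) j)
noncomputable def dp_h_9 (j u : ℕ) : Bool :=
  Bool.rec (motive := fun _ => Bool) (lF [T_d, T_h, T_d, T_h, T_d] M (Nat.sub (T_h u) (Nat.mod (T_h u) M)) (Nat.mod (T_h u) M) u) (dp_h_8 j u) (Nat.ble (nat_lit 11) j)
noncomputable def dp_h_10 (j u : ℕ) : Bool :=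
  Bool.rec (motive := fun _ => Bool) (lF3 T_c T_h T_c M (Nat.sub (T_h u) (Nat.mod (T_h u) M)) (Nat.mod (T_h u) M) u) (dp_h_9 j u) (Nat.ble (nat_lit 10) j)
noncomputable def dp_h_11 (j u : ℕ) : Bool :=
  Bool.rec (motive := fun _ => Bool) (lF3 T_e T_h T_e M (Nat.sub (T_h u) (Nat.mod (T_h u) M)) (Nat.mod (T_h u) M) u) (dp_h_10 j u) (Nat.ble (nat_lit 9) j)
noncomputable def dp_h_12 (j u : ℕ) : Bool :=
  Bool.rec (motive := fun _ => Bool) (dp_h_0 j u) (dp_h_11 j u) (Nat.ble (nat_lit 8) j)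
noncomputable def dp_h_13 (j u : ℕ) : Bool :=
  Bool.rec (motive := fun _ => Bool) (Bool.rec (motive := fun _ => Bool) (lF3 T_k T_h T_k M (Nat.sub (T_h u) (Nat.mod (T_h u) M)) (Nat.mod (T_h u) M) u) (lF3 T_a T_h T_a M (Nat.sub (T_h u) (Nat.mod (T_h u) M)) (Nat.mod (T_h u) M) u) (Nat.ble (nat_lit 5) j)) (dp_h_12 j u) (Nat.ble (nat_lit 6) j)
noncomputable def disp_h (j u : ℕ) : Bool :=
  Bool.rec (motive := fun _ => Bool) (Bool.rec (motive := fun _ => Bool) (lDef P (nat_lit 8) (Nat.mod (T_h u) M) u) (lDef P (nat_lit 8) u (Nat.mod (T_h u) M)) (Nat.ble (nat_lit 1) j)) (Bool.rec (motive := fun _ => Bool) (Bool.rec (motive := fun _ => Bool) (lF1 T_h M (Nat.sub (T_h u) (Nat.mod (T_h u) M)) (Nat.mod (T_h u) M) u) (lF3 T_l T_h T_l M (Nat.sub (T_h u) (Nat.mod (T_h u) M)) (Nat.mod (T_h u) M) u) (Nat.ble (nat_lit 3) j)) (dp_h_13 j u) (Nat.ble (nat_lit 4) j)) (Nat.ble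 (nat_lit 2) j)
noncomputable def chk_h (j u : ℕ) : Bool :=
  Bool.rec (motive := fun _ => Bool) (disp_h j u) (Nat.ble (Nat.succ (MG u)) A) (Nat.ble A (T_h u))
noncomputable def dp_i_0 (j u : ℕ) : Bool :=
  Bool.rec (motive := fun _ => Bool) (lF3 T_k T_i T_k M (Nat.sub (T_i u) (Nat.mod (T_i u) M)) (Nat.mod (T_i u) M) u) (lF3 T_a T_i T_a M (Nat.sub (T_i u) (Nat.mod (T_i u) M)) (Nat.mod (T_i u) M) u) (Nat.ble (nat_lit 5) j)
noncomputable def dp_i_1 (j u : ℕ) : Bool :=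
  Bool.rec (motive := fun _ => Bool) (lF3 T_f T_i T_f M (Nat.sub (T_i u) (Nat.mod (T_i u) M)) (Nat.mod (T_i u) M) u) (lF3 T_e T_i T_e M (Nat.sub (T_i u) (Nat.mod (T_i u) M)) (Nat.mod (T_i u) M) u) (Nat.ble (nat_lit 7) j)
noncomputable def dp_i_2 (j u : ℕ) : Bool :=
  Bool.rec (motive := fun _ => Bool) (lF3 T_d T_i T_d M (Nat.sub (T_i u) (Nat.mod (T_i u) M)) (Nat.mod (T_i u) M) u) (lF3 T_b T_i T_b M (Nat.sub (T_i u) (Nat.mod (T_i u) M)) (Nat.mod (T_i u) M) u) (Nat.ble (nat_lit 9) j)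
noncomputable def dp_i_3 (j u : ℕ) : Bool :=
  Bool.rec (motive := fun _ => Bool) (lS MG [T_d, T_i, T_d] M (Nat.sub (T_i u) (Nat.mod (T_i u) M)) (nat_lit 40) (Nat.mod (T_i u) M) u) (lS MG [T_f, T_i, T_f] M (Nat.sub (T_i u) (Nat.mod (T_i u) M)) (nat_lit 40) (Nat.mod (T_i u) M) u) (Nat.ble (nat_lit 14) j)
noncomputable def dp_i_4 (j u : ℕ) : Bool :=
  Bool.rec (motive := fun _ => Bool) (lS MG [T_c, T_i, T_c] M (Nat.sub (T_i u) (Nat.mod (T_i u) M)) (nat_lit 40) (Nat.mod (T_i u) M) u) (lS MG [T_a, T_i, T_a] M (Nat.sub (T_i u) (Nat.mod (T_i u) M)) (nat_lit 40) (Nat.mod (T_i u) M) u) (Nat.ble (nat_lit 18) j)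
noncomputable def dp_i_5 (j u : ℕ) : Bool :=
  Bool.rec (motive := fun _ => Bool) (lS MG [T_b, T_i, T_b] M (Nat.sub (T_i u) (Nat.mod (T_i u) M)) (nat_lit 40) (Nat.mod (T_i u) M) u) (dp_i_4 j u) (Nat.ble (nat_lit 17) j)
noncomputable def dp_i_6 (j u : ℕ) : Bool :=
  Bool.rec (motive := fun _ => Bool) (lS MG [T_e, T_i, T_e] M (Nat.sub (T_i u) (Nat.mod (T_i u) M)) (nat_lit 40) (Nat.mod (T_i u) M) u) (dp_i_5 j u) (Nat.ble (nat_lit 16) j)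
noncomputable def dp_i_7 (j u : ℕ) : Bool :=
  Bool.rec (motive := fun _ => Bool) (dp_i_3 j u) (dp_i_6 j u) (Nat.ble (nat_lit 15) j)
noncomputable def dp_i_8 (j u : ℕ) : Bool :=
  Bool.rec (motive := fun _ => Bool) (lF [T_h, T_i, T_h, T_i, T_h] M (Nat.sub (T_i u) (Nat.mod (T_i u) M)) (Nat.mod (T_i u) M) u) (dp_i_7 j u) (Nat.ble (nat_lit 13) j)
noncomputable def dp_i_9 (j u : ℕ) : Bool :=
  Bool.rec (motive := fun _ => Bool) (lS MG [T_i] M (Nat.sub (T_i u) (Nat.mod (T_i u) M)) (nat_lit 40) (Nat.mod (T_i u) M) u) (dp_i_8 j u) (Nat.ble (nat_lit 12) j)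
noncomputable def dp_i_10 (j u : ℕ) : Bool :=
  Bool.rec (motive := fun _ => Bool) (lF3 T_c T_i T_c M (Nat.sub (T_i u) (Nat.mod (T_i u) M)) (Nat.mod (T_i u) M) u) (dp_i_9 j u) (Nat.ble (nat_lit 11) j)
noncomputable def dp_i_11 (j u : ℕ) : Bool :=
  Bool.rec (motive := fun _ => Bool) (dp_i_2 j u) (dp_i_10 j u) (Nat.ble (nat_lit 10) j)
noncomputable def dp_i_12 (j u : ℕ) : Bool :=
  Bool.rec (motive := fun _ => Bool) (dp_i_1 j u) (dp_i_11 j u) (Nat.ble (nat_lit 8) j)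
noncomputable def dp_i_13 (j u : ℕ) : Bool :=
  Bool.rec (motive := fun _ => Bool) (dp_i_0 j u) (dp_i_12 j u) (Nat.ble (nat_lit 6) j)
noncomputable def disp_i (j u : ℕ) : Bool :=
  Bool.rec (motive := fun _ => Bool) (Bool.rec (motive := fun _ => Bool) (lF1 T_i M (Nat.sub (T_i u) (Nat.mod (T_i u) M)) (Nat.mod (T_i u) M) u) (lDef P (nat_lit 9) (Nat.mod (T_i u) M) u) (Nat.ble (nat_lit 1) j)) (Bool.rec (motive := fun _ => Bool) (Bool.rec (motive := fun _ => Bool) (lDef P (nat_lit 9) u (Nat.mod (T_i u) M)) (lF3 T_l T_i T_l M (Nat.sub (T_i u) (Nat.mod (T_i u) M)) (Nat.mod (T_i u) M) u) (Nat.ble (nat_lit 3) j)) (dp_i_13 j u) (Nat.ble (nat_lit 4) j)) (Nat.ble (nat_lit 2) j)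
noncomputable def chk_i (j u : ℕ) : Bool :=
  Bool.rec (motive := fun _ => Bool) (disp_i j u) (Nat.ble (Nat.succ (MG u)) A) (Nat.ble A (T_i u))
noncomputable def dM_0 (j z1 z2 u : ℕ) : Bool :=
  Bool.rec (motive := fun _ => Bool) (mCo MG T_h M (Nat.sub (MG u) (Nat.mod (MG u) M)) (nat_lit 40) z1 z2 u (Nat.mod (MG u) M)) (Bool.rec (motive := fun _ => Bool) (mCo MG T_d M (Nat.sub (MG u) (Nat.mod (MG u) M)) (nat_lit 40) z1 z2 u (Nat.mod (MG u) M)) (mCo MG T_i M (Nat.sub (MG u) (Nat.mod (MG u) M)) (nat_lit 40) z1 z2 u (Nat.mod (MG u) M)) (Nat.ble (nat_lit 2) j)) (Nat.ble (nat_lit 1) j)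
noncomputable def dM_1 (j z1 z2 u : ℕ) : Bool :=
  Bool.rec (motive := fun _ => Bool) (mCo MG T_e M (Nat.sub (MG u) (Nat.mod (MG u) M)) (nat_lit 40) z1 z2 u (Nat.mod (MG u) M)) (mCo MG T_f M (Nat.sub (MG u) (Nat.mod (MG u) M)) (nat_lit 40) z1 z2 u (Nat.mod (MG u) M)) (Nat.ble (nat_lit 4) j)
noncomputable def dM_2 (j z1 z2 u : ℕ) : Bool :=
  Bool.rec (motive := fun _ => Bool) (mCo MG T_c M (Nat.sub (MG u) (Nat.mod (MG u) M)) (nat_lit 40) z1 z2 u (Nat.mod (MG u) M)) (mCo MG T_b M (Nat.sub (MG u) (Nat.mod (MG u) M)) (nat_lit 40) z1 z2 u (Nat.mod (MG u) M)) (Nat.ble (nat_lit 6) j)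
noncomputable def dM_3 (j z1 z2 u : ℕ) : Bool :=
  mCo MG T_a M (Nat.sub (MG u) (Nat.mod (MG u) M)) (nat_lit 40) z1 z2 u (Nat.mod (MG u) M)
noncomputable def dM_4 (j z1 z2 u : ℕ) : Bool :=
  mCo MG T_k M (Nat.sub (MG u) (Nat.mod (MG u) M)) (nat_lit 40) z1 z2 u (Nat.mod (MG u) M)
noncomputable def dM_5 (j z1 z2 u : ℕ) : Bool :=
  mCo MG T_l M (Nat.sub (MG u) (Nat.mod (MG u) M)) (nat_lit 40) z1 z2 u (Nat.mod (MG u) M)
noncomputable def dM_6 (j z1 z2 u : ℕ) : Bool :=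
  Bool.rec (motive := fun _ => Bool) (mRel MG [T_h, T_c] [T_c, T_h] M (Nat.sub (MG u) (Nat.mod (MG u) M)) (nat_lit 40) z1 u (Nat.mod (MG u) M)) (Bool.rec (motive := fun _ => Bool) (mRel MG [T_a, T_c] [T_c, T_a] M (Nat.sub (MG u) (Nat.mod (MG u) M)) (nat_lit 40) z1 u (Nat.mod (MG u) M)) (Bool.rec (motive := fun _ => Bool) (mRel MG [T_h, T_a] [T_a, T_h] M (Nat.sub (MG u) (Nat.mod (MG u) M)) (nat_lit 40) z1 u (Nat.mod (MG u) M)) (mRel MG [T_f, T_e, T_d, T_c, T_b, T_a, T_h, T_f, T_e, T_d, T_c, T_b, T_a, T_h, T_f, T_e, T_d, T_c, T_b, T_a, T_h, T_f, T_e, T_d, T_c, T_b, T_a, T_h, T_f, T_e, T_d, T_c, T_b, T_a, T_h, T_f, T_e, T_d, T_c, T_b, T_a, T_h, T_f, T_e, T_d, T_c, T_b, T_a, T_h, T_f, T_e, T_d, T_c, T_b, T_a, T_h, T_f, T_e, T_d, T_c, T_b, T_a] [T_h, T_l] M (Nat.sub (MG u) (Nat.mod (MG u) M)) (nat_lit 40) z1 u (Nat.mod (MG u) M)) (Nat.ble (nat_lit 13) j))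 (Nat.ble (nat_lit 12) j)) (Nat.ble (nat_lit 11) j)
noncomputable def dM_7 (j z1 z2 u : ℕ) : Bool :=
  Bool.rec (motive := fun _ => Bool) (Bool.rec (motive := fun _ => Bool) (Bool.rec (motive := fun _ => Bool) (mRel MG [T_a, T_e, T_a] [T_e] M (Nat.sub (MG u) (Nat.mod (MG u) M)) (nat_lit 40) z1 u (Nat.mod (MG u) M)) (mRel MG [T_i, T_b] [T_b, T_i] M (Nat.sub (MG u) (Nat.mod (MG u) M)) (nat_lit 40) z1 u (Nat.mod (MG u) M)) (Nat.ble (nat_lit 15) j)) (Bool.rec (motive := fun _ => Bool) (mRel MG [T_d, T_k] [T_k, T_d] M (Nat.sub (MG u) (Nat.mod (MG u) M)) (nat_lit 40) z1 u (Nat.mod (MG u) M)) (mRel MG [T_l, T_f] [T_f, T_l] M (Nat.sub (MG u) (Nat.mod (MG u) M)) (nat_lit 40) z1 u (Nat.mod (MG u) M)) (Nat.ble (nat_lit 17) j)) (Nat.ble (nat_lit 16) j)) (Bool.rec (motive := fun _ => Bool) (Bool.rec (motive := fun _ => Bool) (mRel MG [T_d, T_l] [T_l, T_d] M (Nat.sub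 (MG u) (Nat.mod (MG u) M)) (nat_lit 40) z1 u (Nat.mod (MG u) M)) (mRel MG [T_c, T_k, T_c] [T_k] M (Nat.sub (MG u) (Nat.mod (MG u) M)) (nat_lit 40) z1 u (Nat.mod (MG u) M)) (Nat.ble (nat_lit 19) j)) (Bool.rec (motive := fun _ => Bool) (mRel MG [T_h, T_f, T_h] [T_f] M (Nat.sub (MG u) (Nat.mod (MG u) M)) (nat_lit 40) z1 u (Nat.mod (MG u) M)) (Bool.rec (motive := fun _ => Bool) (mRel MG [T_a, T_l] [T_l, T_a] M (Nat.sub (MG u) (Nat.mod (MG u) M)) (nat_lit 40) z1 u (Nat.mod (MG u) M)) (mRel MG [T_a, T_h] [T_h, T_a] M (Nat.sub (MG u) (Nat.mod (MG u) M)) (nat_lit 40) z1 u (Nat.mod (MG u) M)) (Nat.ble (nat_lit 22) j)) (Nat.ble (nat_lit 21) j)) (Nat.ble (nat_lit 20) j)) (Nat.ble (nat_lit 18) j)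
noncomputable def dM_8 (j z1 z2 u : ℕ) : Bool :=
  Bool.rec (motive := fun _ => Bool) (dM_6 j z1 z2 u) (dM_7 j z1 z2 u) (Nat.ble (nat_lit 14) j)
noncomputable def dM_9 (j z1 z2 u : ℕ) : Bool :=
  Bool.rec (motive := fun _ => Bool) (Bool.rec (motive := fun _ => Bool) (Bool.rec (motive := fun _ => Bool) (mRel MG [T_k, T_b] [T_b, T_k] M (Nat.sub (MG u) (Nat.mod (MG u) M)) (nat_lit 40) z1 u (Nat.mod (MG u) M)) (mRel MG [T_k, T_c] [T_c, T_k] M (Nat.sub (MG u) (Nat.mod (MG u) M)) (nat_lit 40) z1 u (Nat.mod (MG u) M)) (Nat.ble (nat_lit 24) j)) (Bool.rec (motive := fun _ => Bool) (mRel MG [T_b, T_l] [T_l, T_b] M (Nat.sub (MG u) (Nat.mod (MG u) M)) (nat_lit 40) z1 u (Nat.mod (MG u) M)) (mRel MG [T_c, T_k] [T_k, T_c] M (Nat.sub (MG u) (Nat.mod (MG u) M)) (nat_lit 40) z1 u (Nat.mod (MG u) M)) (Nat.ble (nat_lit 26) j)) (Nat.ble (nat_lit 25) j)) (Bool.rec (motive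 := fun _ => Bool) (Bool.rec (motive := fun _ => Bool) (mRel MG [T_l, T_c] [T_c, T_l] M (Nat.sub (MG u) (Nat.mod (MG u) M)) (nat_lit 40) z1 u (Nat.mod (MG u) M)) (mRel MG [T_c, T_h] [T_h, T_c] M (Nat.sub (MG u) (Nat.mod (MG u) M)) (nat_lit 40) z1 u (Nat.mod (MG u) M)) (Nat.ble (nat_lit 28) j)) (Bool.rec (motive := fun _ => Bool) (mRel MG [T_d, T_b] [T_b, T_d] M (Nat.sub (MG u) (Nat.mod (MG u) M)) (nat_lit 40) z1 u (Nat.mod (MG u) M)) (Bool.rec (motive := fun _ => Bool) (mRel MG [T_d, T_a] [T_a, T_d] M (Nat.sub (MG u) (Nat.mod (MG u) M)) (nat_lit 40) z1 u (Nat.mod (MG u) M)) (mRel MG [T_e, T_a] [T_a, T_e] M (Nat.sub (MG u) (Nat.mod (MG u) M)) (nat_lit 40) z1 u (Nat.mod (MG u) M)) (Nat.ble (nat_lit 31) j)) (Nat.ble (nat_lit 30) j)) (Nat.ble (nat_lit 29) j)) (Nat.ble (nat_lit 27) j)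
noncomputable def dM_10 (j z1 z2 u : ℕ) : Bool :=
  Bool.rec (motive := fun _ => Bool) (Bool.rec (motive := fun _ => Bool) (Bool.rec (motive := fun _ => Bool) (mRel MG [T_k, T_d] [T_d, T_k] M (Nat.sub (MG u) (Nat.mod (MG u) M)) (nat_lit 40) z1 u (Nat.mod (MG u) M)) (mRel MG [T_b, T_h] [T_h, T_b] M (Nat.sub (MG u) (Nat.mod (MG u) M)) (nat_lit 40) z1 u (Nat.mod (MG u) M)) (Nat.ble (nat_lit 33) j)) (Bool.rec (motive := fun _ => Bool) (mRel MG [T_k, T_h] [T_h, T_k] M (Nat.sub (MG u) (Nat.mod (MG u) M)) (nat_lit 40) z1 u (Nat.mod (MG u) M)) (Bool.rec (motive := fun _ => Bool) (mRel MG [T_e, T_h] [T_h, T_e] M (Nat.sub (MG u) (Nat.mod (MG u) M)) (nat_lit 40) z1 u (Nat.mod (MG u) M)) (mRel MG [T_h, T_a, T_b, T_c, T_d, T_e] [T_f, T_e, T_d, T_c, T_b, T_a, T_h, T_f, T_e, T_d, T_c, T_b, T_a, T_h, T_f, T_e, T_d, T_c, T_b, T_a, T_h, T_f, T_e, T_d, T_c, T_b, T_a, T_h,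 T_f, T_e, T_d, T_c, T_b, T_a, T_l, T_h, T_f, T_e, T_d, T_c, T_b, T_a, T_h, T_f, T_e, T_d, T_c, T_b, T_a, T_h, T_f, T_e, T_d, T_c, T_b, T_a, T_h, T_f] M (Nat.sub (MG u) (Nat.mod (MG u) M)) (nat_lit 40) z1 u (Nat.mod (MG u) M)) (Nat.ble (nat_lit 36) j)) (Nat.ble (nat_lit 35) j)) (Nat.ble (nat_lit 34) j)) (Bool.rec (motive := fun _ => Bool) (Bool.rec (motive := fun _ => Bool) (mRel MG [T_c, T_l] [T_l, T_c] M (Nat.sub (MG u) (Nat.mod (MG u) M)) (nat_lit 40) z1 u (Nat.mod (MG u) M)) (mRel MG [T_h, T_l] [T_l, T_h] M (Nat.sub (MG u) (Nat.mod (MG u) M)) (nat_lit 40) z1 u (Nat.mod (MG u) M)) (Nat.ble (nat_lit 38) j)) (Bool.rec (motive := fun _ => Bool) (mRel MG [T_f, T_b] [T_b, T_f] M (Nat.sub (MG u) (Nat.mod (MG u) M)) (nat_lit 40) z1 u (Nat.mod (MG u) M)) (Bool.rec (motive := fun _ => Bool) (mRel MG [T_f, T_k] [T_k, T_f] M (Nat.sub (MG u) (Nat.mod (MG u) M))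 (nat_lit 40) z1 u (Nat.mod (MG u) M)) (mRel MG [T_f, T_i] [T_i, T_f] M (Nat.sub (MG u) (Nat.mod (MG u) M)) (nat_lit 40) z1 u (Nat.mod (MG u) M)) (Nat.ble (nat_lit 41) j)) (Nat.ble (nat_lit 40) j)) (Nat.ble (nat_lit 39) j)) (Nat.ble (nat_lit 37) j)
noncomputable def dM_11 (j z1 z2 u : ℕ) : Bool :=
  Bool.rec (motive := fun _ => Bool) (dM_9 j z1 z2 u) (dM_10 j z1 z2 u) (Nat.ble (nat_lit 32) j)
noncomputable def dM_12 (j z1 z2 u : ℕ) : Bool :=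
  Bool.rec (motive := fun _ => Bool) (dM_8 j z1 z2 u) (dM_11 j z1 z2 u) (Nat.ble (nat_lit 23) j)
noncomputable def dM_13 (j z1 z2 u : ℕ) : Bool :=
  Bool.rec (motive := fun _ => Bool) (dM_5 j z1 z2 u) (dM_12 j z1 z2 u) (Nat.ble (nat_lit 10) j)
noncomputable def dM_14 (j z1 z2 u : ℕ) : Bool :=
  Bool.rec (motive := fun _ => Bool) (dM_4 j z1 z2 u) (dM_13 j z1 z2 u) (Nat.ble (nat_lit 9) j)
noncomputable def dM_15 (j z1 z2 u : ℕ) : Bool :=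
  Bool.rec (motive := fun _ => Bool) (dM_3 j z1 z2 u) (dM_14 j z1 z2 u) (Nat.ble (nat_lit 8) j)
noncomputable def dM_16 (j z1 z2 u : ℕ) : Bool :=
  Bool.rec (motive := fun _ => Bool) (dM_2 j z1 z2 u) (dM_15 j z1 z2 u) (Nat.ble (nat_lit 7) j)
noncomputable def dM_17 (j z1 z2 u : ℕ) : Bool :=
  Bool.rec (motive := fun _ => Bool) (dM_1 j z1 z2 u) (dM_16 j z1 z2 u) (Nat.ble (nat_lit 5) j)
noncomputable def dM_18 (j z1 z2 u : ℕ) : Bool :=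
  Bool.rec (motive := fun _ => Bool) (dM_0 j z1 z2 u) (dM_17 j z1 z2 u) (Nat.ble (nat_lit 3) j)
noncomputable def chkM (u : ℕ) : Bool :=
  Bool.rec (motive := fun _ => Bool) (band (Nat.ble (Nat.succ (Nat.mod (MG u) M)) u) (dM_18 (Nat.land (MR u) (nat_lit 63)) (Nat.land (Nat.shiftRight (MR u) (nat_lit 6)) (nat_lit 65535)) (Nat.shiftRight (MR u) (nat_lit 22)) u)) true (Nat.ble A (MG u))
noncomputable def chkN (u : ℕ) : Bool :=
  band (chk_l (Nat.land (Nat.shiftRight (RS u) (nat_lit 0)) (nat_lit 31)) u) (band (chk_k (Nat.land (Nat.shiftRight (RS u) (nat_lit 5)) (nat_lit 31)) u) (band (chk_a (Nat.land (Nat.shiftRight (RS u) (nat_lit 10)) (nat_lit 31)) u) (band (chk_b (Nat.land (Nat.shiftRight (RS u) (nat_lit 15)) (nat_lit 31)) u) (band (chk_c (Nat.land (Nat.shiftRight (RS u) (nat_lit 20)) (nat_lit 31)) u) (band (chk_d (Nat.land (Nat.shiftRight (RS u) (nat_lit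 25)) (nat_lit 31)) u) (band (chk_e (Nat.land (Nat.shiftRight (RS u) (nat_lit 30)) (nat_lit 31)) u) (band (chk_f (Nat.land (Nat.shiftRight (RS u) (nat_lit 35)) (nat_lit 31)) u) (band (chk_h (Nat.land (Nat.shiftRight (RS u) (nat_lit 40)) (nat_lit 31)) u) (band (chk_i (Nat.land (Nat.shiftRight (RS u) (nat_lit 45)) (nat_lit 31)) u) (chkM u))))))))))
noncomputable def chkP (u : ℕ) : Bool := Bool.rec (motive := fun _ => Bool) (chkN u) true (Nat.ble M u)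
noncomputable def liveP (u : ℕ) : Bool := Bool.rec (motive := fun _ => Bool) (Nat.ble A (MG u)) false (Nat.ble M u)
end H35.TCF24P
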